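import Cfsg.Agent.Lib.Spor.CoTwoStab.Words

/-!
The sets are distinct.
-/

set_option autoImplicit false
set_option maxRecDepth 100000
set_option maxHeartbeats 0

namespace CfsgLib.Spor.CoTwoStab

open CfsgLib.Spor.Leech.Census32 CfsgLib.Spor.SchurCert.MatBridge

theorem fam_follows : followsOn 891 693 27 vecIm famIm famAt famList = true := by decide +kernel

theorem pt_follows : followsOn 693 672 165 famIm ptIm ptAt ptList = true := by decide +kernel

theorem pt_distinct : ((List.range 672).all fun i => (List.range i).all fun j => !Nat.beq (ptAt i) (ptAt j)) = true := by
  decide +kernel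

theorem fam_distinct : ((List.range 692).all fun i => Nat.blt (famAt i) (famAt (i + 1))) = true := by decide +kernel

end CfsgLib.Spor.CoTwoStab
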