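import Cfsg.Agent.Lib.Spor.CoTwoStab.Words

/-!
The further entries are the products, and the two automorphisms fix the two marked vectors.
-/

set_option autoImplicit false
set_option maxRecDepth 100000
set_option maxHeartbeats 0

namespace CfsgLib.Spor.CoTwoStab

open CfsgLib.Spor.Leech.Census32 CfsgLib.Spor.SchurCert.MatBridge

theorem table_check : (extendM ops CoTwoMult.mats == table) = true := by decide +kernel

theorem fix_check : (places.all fun k => Nat.beq (step (table.getD k oneMat) CoTwoMult.markCode) CoTwoMult.markCode) = true := by decide +kernel

end CfsgLib.Spor.CoTwoStab
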