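import Cfsg.Agent.Lib.Spor.CoTwoStab.Data
import Cfsg.Agent.Lib.Spor.CoTwoStab.Fam
import Cfsg.Agent.Lib.Spor.CoTwoMult.Table
import Cfsg.Agent.Lib.Lie.MultExc.USixTwo.Table

/-!
The checks on the two automorphisms and on the two families of sets.
-/

set_option autoImplicit false
set_option maxRecDepth 100000

namespace CfsgLib.Spor.CoTwoStab

open CfsgLib.Spor.Leech.Census32 CfsgLib.Spor.SchurCert.MatBridge

/-- The whole table. -/
def table : List Mat := CoTwoMult.mats ++ mats

/-- An entry of a chunked list. -/
def getC (n : ℕ) (l : List (List ℕ)) (i : ℕ) : ℕ := (l.getD (i / n) []).getD (i % n) 0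

/-- An entry of a packed list. -/
def get10 (P i : ℕ) : ℕ := (P >>> (10 * i)) &&& 1023

/-- The number of a vector. -/
def code (i : ℕ) : ℕ := getC 81 vecCodes i

/-- A set of 27. -/
def famAt (i : ℕ) : ℕ := getC 33 famSets i

/-- A set of 165. -/
def ptAt (i : ℕ) : ℕ := getC 32 ptSets i

/-- The members of a set of 27. -/
def famList (i : ℕ) : ℕ := getC 33 famLists i

/-- The members of a set of 165. -/
def ptList (i : ℕ) : ℕ := getC 32 ptLists i

/-- The image of a vector. -/
def vecIm (s i : ℕ) : ℕ := get10 (imgs.getD s 0) i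

/-- The image of a set of 27. -/
def famIm (s i : ℕ) : ℕ := get10 (famImgs.getD s 0) i

/-- The image of a point. -/
def ptIm (s i : ℕ) : ℕ :=
  let tab := CfsgLib.Lie.MultExc.USixTwo.tab
  CfsgLib.Spor.PermCert.look tab.w tab.R s i

/-- The set of the values of a map on the members of a packed list. -/
noncomputable def imageMask (f : ℕ → ℕ) (P : ℕ) (c : ℕ) : ℕ :=
  Nat.rec 0 (fun k r => Nat.lor r (Nat.shiftLeft 1 (f (get10 P k)))) c

/-- The sets are their lists, all in range, and the maps of the members carry them as listed. -/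
noncomputable def followsOn (n m c : ℕ) (f σ : ℕ → ℕ → ℕ) (S L : ℕ → ℕ) : Bool :=
  (List.range m).all fun i => Nat.beq (imageMask (fun x => x) (L i) c) (S i) &&
    ((List.range c).all fun k => Nat.blt (get10 (L i) k) n) &&
    (List.range 2).all fun s => Nat.blt (σ s i) m && Nat.beq (imageMask (f s) (L i) c) (S (σ s i))

/-- The automorphisms move the vectors as listed. -/
noncomputable def vecOK (s : ℕ) : Bool :=
  (List.range 891).all fun i => Nat.blt (vecIm s i) 891 &&
    Nat.beq (step (table.getD (places.getD s 0) oneMat) (code i)) (code (vecIm s i))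

end CfsgLib.Spor.CoTwoStab
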