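import Mathlib
import Cfsg.Agent.Lib.Spor.CoTwoStab.Words

/-!
Invariant families of sets give homomorphisms to their symmetric groups.
-/

set_option autoImplicit false

namespace CfsgLib.Spor.CoTwoStab

theorem testBit_imageMask (f : ℕ → ℕ) (P c y : ℕ) :
    (imageMask f P c).testBit y = true ↔ ∃ k < c, f (get10 P k) = y := by
  induction c with
  | zero => simp [imageMask]
  | succ c ih =>
    have e : imageMask f P (c + 1) = imageMask f P c ||| (1 <<< f (get10 P c)) := rfl
    rw [e, Nat.testBit_or, Bool.or_eq_true, ih, Nat.one_shiftLeft, Nat.testBit_two_pow, decide_eq_true_eq]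
    constructor
    · rintro (⟨k, hk, h⟩ | h)
      · exact ⟨k, by omega, h⟩
      · exact ⟨c, by omega, h⟩
    · rintro ⟨k, hk, h⟩
      rcases Nat.lt_succ_iff_lt_or_eq.1 hk with hk | rfl
      · exact Or.inl ⟨k, hk, h⟩
      · exact Or.inr h

/-- The consequences of the check on the sets and their lists. -/
theorem follows_spec {n m c : ℕ} {f σ : ℕ → ℕ → ℕ} {S L : ℕ → ℕ} (h : followsOn n m c f σ S L = true) {i : ℕ}
    (hi : i < m) : (∀ k < c, get10 (L i) k < n) ∧ imageMask (fun x => x) (L i) c = S i ∧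
      ∀ s < 2, σ s i < m ∧ imageMask (f s) (L i) c = S (σ s i) := by
  simp only [followsOn, List.all_eq_true, List.mem_range, Bool.and_eq_true] at h
  obtain ⟨⟨h1, h2⟩, h3⟩ := h i hi
  exact ⟨fun k hk => Nat.le_of_ble_eq_true (h2 k hk), Nat.eq_of_beq_eq_true h1,
    fun s hs => ⟨Nat.le_of_ble_eq_true (h3 s hs).1, Nat.eq_of_beq_eq_true (h3 s hs).2⟩⟩

/-- A family of sets that two elements respect gives an action of the group they generate. -/
theorem exists_lift {n m c : ℕ} {f σ : ℕ → ℕ → ℕ} {S L : ℕ → ℕ} (h : followsOn n m c f σ S L = true)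
    (hinj : ∀ i < m, ∀ j < m, S i = S j → i = j) {G : Type*} [Group G] [Finite G] (a : Fin 2 → G)
    (K : Subgroup G) (hK : K = Subgroup.closure (Set.range a)) (ha : ∀ s, a s ∈ K)
    (rho : ↥K →* Equiv.Perm (Fin n)) (hrho : ∀ s x, (rho ⟨a s, ha s⟩ x).1 = f s.1 x.1) :
    ∃ psi : ↥K →* Equiv.Perm (Fin m), ∀ (s : Fin 2) (i : Fin m), (psi ⟨a s, ha s⟩ i).1 = σ s.1 i.1 := by
  have hsmall : ∀ i < m, ∀ y, (S i).testBit y = true → y < n := fun i hi y hy => by
    obtain ⟨h1, h2, -⟩ := follows_spec h hi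
    rw [← h2, testBit_imageMask] at hy
    obtain ⟨k, hk, rfl⟩ := hy
    exact h1 k hk
  have hbitinj : ∀ i j : Fin m, (∀ x : Fin n, (S i.1).testBit x.1 = (S j.1).testBit x.1) → i = j := by
    intro i j hx
    refine Fin.ext (hinj _ i.2 _ j.2 (Nat.eq_of_testBit_eq fun y => ?_))
    by_cases hy : y < n
    · exact hx ⟨y, hy⟩
    · cases h1 : (S i.1).testBit y
      · cases h2 : (S j.1).testBit y
        · rfl
        · exact absurd (hsmall _ j.2 y h2) hy
      · exact absurd (hsmall _ i.2 y h1) hy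
  let Good : ↥K → Prop := fun g => ∀ i : Fin m, ∃ j : Fin m, ∀ x : Fin n,
    (S i.1).testBit x.1 = (S j.1).testBit (rho g x).1
  have hgen : ∀ (s : Fin 2) (i : Fin m), ∀ x : Fin n,
      (S i.1).testBit x.1 = (S (σ s.1 i.1)).testBit (rho ⟨a s, ha s⟩ x).1 := by
    intro s i x
    obtain ⟨h1, h2, h3⟩ := follows_spec h i.2
    rw [← (h3 s.1 s.2).2, ← h2, hrho, Bool.eq_iff_iff, testBit_imageMask, testBit_imageMask]
    constructor
    · rintro ⟨k, hk, e⟩
      exact ⟨k, hk, by rw [e]⟩
    · rintro ⟨k, hk, e⟩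
      refine ⟨k, hk, ?_⟩
      have e' : rho ⟨a s, ha s⟩ ⟨get10 (L i.1) k, h1 k hk⟩ = rho ⟨a s, ha s⟩ x :=
        Fin.ext (by rw [hrho, hrho]; exact e)
      exact congrArg Fin.val ((rho ⟨a s, ha s⟩).injective e')
  have hgood : ∀ g : ↥K, Good g := by
    suffices ∀ g ∈ Subgroup.closure (Set.range a), ∀ hg : g ∈ K, Good ⟨g, hg⟩ from
      fun g => this g.1 (hK ▸ g.2) g.2
    intro g hg
    rw [← Subgroup.mem_toSubmonoid, Subgroup.closure_toSubmonoid_of_finite] at hg
    induction hg using Submonoid.closure_induction with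
    | mem x hx =>
      obtain ⟨s, rfl⟩ := hx
      intro _ i
      exact ⟨⟨_, ((follows_spec h i.2).2.2 s.1 s.2).1⟩, hgen s i⟩
    | one =>
      intro hg i
      refine ⟨i, fun x => ?_⟩
      rw [show (⟨1, hg⟩ : ↥K) = 1 from rfl, map_one]
      rfl
    | mul x y hx hy ihx ihy =>
      intro hg i
      have hxK : x ∈ K := by rw [hK, ← Subgroup.mem_toSubmonoid, Subgroup.closure_toSubmonoid_of_finite]; exact hx
      have hyK : y ∈ K := by rw [hK, ← Subgroup.mem_toSubmonoid, Subgroup.closure_toSubmonoid_of_finite]; exact hy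
      obtain ⟨j, hj⟩ := ihy hyK i
      obtain ⟨k, hk⟩ := ihx hxK j
      refine ⟨k, fun z => ?_⟩
      rw [show (⟨x * y, hg⟩ : ↥K) = ⟨x, hxK⟩ * ⟨y, hyK⟩ from rfl, map_mul]
      exact (hj z).trans (hk _)
  choose act hact using hgood
  have hactu : ∀ (g : ↥K) i j, (∀ x : Fin n, (S i.1).testBit x.1 = (S j.1).testBit (rho g x).1) → act g i = j :=
    fun g i j e => hbitinj _ _ fun y => by
      obtain ⟨x, rfl⟩ := (rho g).surjective y
      rw [← hact g i x, e x]
  have hone : ∀ i, act 1 i = i := fun i => hactu 1 i i fun x => by rw [map_one]; rfl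
  have hmul : ∀ g k i, act (g * k) i = act g (act k i) := fun g k i => hactu _ _ _ fun x => by
    rw [hact k i x, hact g (act k i) (rho k x), map_mul]
    rfl
  refine ⟨{ toFun := fun g =>
              { toFun := act g
                invFun := act g⁻¹
                left_inv := fun i => by rw [← hmul, inv_mul_cancel, hone]
                right_inv := fun i => by rw [← hmul, mul_inv_cancel, hone] }
            map_one' := Equiv.ext hone
            map_mul' := fun g k => Equiv.ext (hmul g k) }, fun s i => ?_⟩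
  exact congrArg Fin.val (hactu ⟨a s, ha s⟩ i ⟨_, ((follows_spec h i.2).2.2 s.1 s.2).1⟩ (hgen s i))

end CfsgLib.Spor.CoTwoStab
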