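import Cfsg.Agent.Lib.Spor.CoTwoStab.CheckTable
import Cfsg.Agent.Lib.Spor.CoTwoStab.CheckVec
import Cfsg.Agent.Lib.Spor.CoTwoStab.CheckList
import Cfsg.Agent.Lib.Spor.CoTwoStab.CheckDistinct
import Cfsg.Agent.Lib.Spor.CoTwoStab.Lift
import Cfsg.Agent.Lib.Spor.CoTwoMult.Table
import Cfsg.Agent.Lib.Spor.Leech.Census
import Cfsg.Agent.Lib.Spor.Leech.Pairs
import Cfsg.Agent.Lib.Lie.MultExc.USixTwo.Group

/-!
The stabilizer of two short vectors with inner product minus two is the projective special unitary group in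
dimension six over two elements.
-/

set_option autoImplicit false
set_option maxRecDepth 100000

namespace CfsgLib.Spor.CoTwoStab

open Cfsg MulAction CfsgLib.Spor.Leech CfsgLib.Spor.Leech.Census32 CfsgLib.Spor.SchurCert.MatBridge

attribute [local irreducible] chosen enc step extendM

/-- The first vector. -/
noncomputable abbrev uL : leechLattice := Spor.leechU

/-- The second vector. -/
def wL : leechLattice := ⟨fun p => wList.getD (ptIdx p) 0, leechTest_spec (by decide +kernel)⟩

theorem wL_facts : sqNorm (wL : GolayPt → ℤ) = 32 ∧ dotInt (uL : GolayPt → ℤ) (wL : GolayPt → ℤ) = -16 := by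
  decide +kernel

/-- The stabilizer of the two vectors. -/
noncomputable abbrev G0 : Subgroup Co0 := stabilizer Co0 uL ⊓ stabilizer Co0 wL

theorem card_G0 : Nat.card ↥G0 * 4600 ≤ 42305421312000 := by
  have hU : Nat.card ↥(stabilizer Co0 uL) = 42305421312000 := CoTwoMult.card_G0
  haveI : Finite ↥(stabilizer Co0 uL) := Nat.finite_of_card_ne_zero (by rw [hU]; norm_num)
  have hsub : dotSet uL (-16) ⊆ orbit ↥(stabilizer Co0 uL) wL := fun y hy => by
    obtain ⟨g, h1, h2⟩ := pair_transitive (Or.inr (Or.inl rfl)) CoTwoMult.mark_code.2 wL_facts.1 hy.1 wL_facts.2 hy.2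
    exact ⟨⟨g, h1⟩, h2⟩
  have h := Nat.card_congr (orbitProdStabilizerEquivGroup ↥(stabilizer Co0 uL) wL)
  rw [Nat.card_prod, hU] at h
  have h4600 : 4600 ≤ Nat.card (orbit ↥(stabilizer Co0 uL) wL) := by
    rw [Nat.card_coe_set_eq, ← (census (v := uL) CoTwoMult.mark_code.2).1]
    exact Set.ncard_le_ncard hsub (Set.finite_range _)
  have e : stabilizer ↥(stabilizer Co0 uL) wL = G0.subgroupOf (stabilizer Co0 uL) := by
    ext g
    simp [G0, Subgroup.mem_subgroupOf, mem_stabilizer_iff, Subgroup.smul_def]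
  rw [e, Nat.card_congr (Subgroup.subgroupOfEquivOfLe (inf_le_left : G0 ≤ stabilizer Co0 uL)).toEquiv] at h
  rw [← h, mul_comm]
  exact Nat.mul_le_mul h4600 le_rfl

/-- The tests. -/
noncomputable def testsX : List (leechLattice × ℤ) := [(uL, 16), (wL, 0)]

theorem testsOKX : testsOK (plain testsX) codeX = true := by decide +kernel

theorem smul_mem {g : Co0} (hg : g ∈ G0) {y : leechLattice} (hy : y ∈ pickL testsX) : g • y ∈ pickL testsX := by
  refine smul_mem_pickL (fun t ht => ?_) hy
  simp only [testsX, List.mem_cons, List.not_mem_nil, or_false] at ht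
  rcases ht with rfl | rfl
  exacts [hg.1, hg.2]

theorem code_list : ((List.range 891).map code == vecCodes.flatten) = true := by decide +kernel

theorem chosen_eq_map : chosen codeX = (List.range 891).map code := by
  rw [eq_of_beq chosen_check, eq_of_beq code_list]

theorem ncardX : (pickL testsX).ncard = 891 := by
  rw [ncard_pickL testsOKX, chosen_eq_map, List.length_map, List.length_range]

theorem exists_vec (i : Fin 891) : ∃ y ∈ pickL testsX, enc (y : GolayPt → ℤ) = code i.1 := by
  obtain ⟨x, hx, e⟩ := (mem_chosen_iff testsOKX (X := code i.1)).1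
    (by rw [chosen_eq_map]; exact List.mem_map.2 ⟨i.1, List.mem_range.2 i.2, rfl⟩)
  rw [← pickL_eq] at hx
  exact ⟨x, hx, e⟩

/-- The vector of an index. -/
noncomputable def vec (i : Fin 891) : ↥(pickL testsX) := ⟨(exists_vec i).choose, (exists_vec i).choose_spec.1⟩

theorem enc_vec (i : Fin 891) : enc ((vec i).1 : GolayPt → ℤ) = code i.1 := (exists_vec i).choose_spec.2

theorem vec_eq {y : ↥(pickL testsX)} {i : Fin 891} (h : enc (y.1 : GolayPt → ℤ) = code i.1) : y = vec i :=
  Subtype.ext (Subtype.ext (enc_inj (small_of_norm (by rw [y.2.1]; norm_num))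
    (small_of_norm (by rw [(vec i).2.1]; norm_num)) (h.trans (enc_vec i).symm)))

theorem vec_bijective : Function.Bijective vec := by
  have hf : (pickL testsX).Finite := Set.finite_of_ncard_pos (by rw [ncardX]; norm_num)
  haveI := hf.to_subtype
  refine (Nat.bijective_iff_surjective_and_card vec).2 ⟨fun y => ?_, ?_⟩
  · have hy : enc (y.1 : GolayPt → ℤ) ∈ chosen codeX :=
      (mem_chosen_iff testsOKX).2 ⟨y.1, pickL_eq testsX ▸ y.2, rfl⟩
    rw [chosen_eq_map] at hy
    obtain ⟨i, hi, e⟩ := List.mem_map.1 hy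
    exact ⟨⟨i, List.mem_range.1 hi⟩, (vec_eq e.symm).symm⟩
  · rw [Nat.card_fin, Nat.card_coe_set_eq, ncardX]

/-- The image of an index. -/
noncomputable def act (g : ↥G0) (i : Fin 891) : Fin 891 :=
  (Equiv.ofBijective vec vec_bijective).symm ⟨g.1 • (vec i).1, smul_mem g.2 (vec i).2⟩

theorem vec_act (g : ↥G0) (i : Fin 891) : (vec (act g i)).1 = g.1 • (vec i).1 :=
  congrArg Subtype.val ((Equiv.ofBijective vec vec_bijective).apply_symm_apply _)

theorem act_one (i : Fin 891) : act 1 i = i :=
  vec_bijective.1 (Subtype.ext (by rw [vec_act, Subgroup.coe_one, one_smul]))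

theorem act_mul (g h : ↥G0) (i : Fin 891) : act (g * h) i = act g (act h i) :=
  vec_bijective.1 (Subtype.ext (by rw [vec_act, vec_act, vec_act, Subgroup.coe_mul, mul_smul]))

/-- The action on the vectors. -/
noncomputable def rho : ↥G0 →* Equiv.Perm (Fin 891) where
  toFun g :=
    { toFun := act g
      invFun := act g⁻¹
      left_inv := fun i => by rw [← act_mul, inv_mul_cancel, act_one]
      right_inv := fun i => by rw [← act_mul, mul_inv_cancel, act_one] }
  map_one' := Equiv.ext act_one
  map_mul' g h := Equiv.ext (act_mul g h)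

/-- The automorphisms. -/
noncomputable def elts : List Co0 := extendE ops CoTwoMult.elts

theorem isMat_elts : ∀ k, IsMat (elts.getD k 1) (table.getD k oneMat) := by
  have hlen : CoTwoMult.elts.length = CoTwoMult.mats.length := by
    have : ∀ (ws : List (List ℕ)) (acc : List Co0), (extendE ws acc).length = acc.length + ws.length := by
      intro ws
      induction ws with
      | nil => intro acc; rfl
      | cons w ws ih => intro acc; rw [extendE, ih]; simp; omega
    rw [CoTwoMult.elts, this]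
    rfl
  have h := isMat_extend ops CoTwoMult.elts CoTwoMult.mats hlen CoTwoMult.isMat_elts
  rw [eq_of_beq table_check] at h
  exact h

theorem place_mem : ∀ s : Fin 2, places.getD s.1 0 ∈ places := by decide +kernel

theorem w_code : Nat.beq (step (table.getD (places.getD 0 0) oneMat) (enc (wL : GolayPt → ℤ))) (enc (wL : GolayPt → ℤ)) = true ∧
    Nat.beq (step (table.getD (places.getD 1 0) oneMat) (enc (wL : GolayPt → ℤ))) (enc (wL : GolayPt → ℤ)) = true := by
  decide +kernel

theorem gen_mem (s : Fin 2) : elts.getD (places.getD s.1 0) 1 ∈ G0 := by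
  constructor
  · have h := List.all_eq_true.1 fix_check _ (place_mem s)
    rw [← CoTwoMult.mark_code.1] at h
    exact SchurCert.MatBridge.fix_of_step (isMat_elts _) (by rw [CoTwoMult.mark_code.2]; norm_num) h
  · refine SchurCert.MatBridge.fix_of_step (isMat_elts _) (by rw [wL_facts.1]; norm_num) ?_
    fin_cases s
    exacts [w_code.1, w_code.2]

theorem rho_gen (s : Fin 2) (x : Fin 891) : (rho ⟨_, gen_mem s⟩ x).1 = vecIm s.1 x.1 := by
  have h := List.all_eq_true.1 vec_check s.1 (List.mem_range.2 s.2)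
  simp only [vecOK, List.all_eq_true, List.mem_range, Bool.and_eq_true] at h
  obtain ⟨hlt, he⟩ := h x.1 x.2
  have e : act ⟨_, gen_mem s⟩ x = ⟨vecIm s.1 x.1, Nat.le_of_ble_eq_true hlt⟩ := by
    refine vec_bijective.1 (vec_eq ?_)
    rw [vec_act, ← step_enc (isMat_elts _) (by rw [(vec x).2.1]; norm_num), enc_vec]
    exact Nat.eq_of_beq_eq_true he
  show (act _ x).1 = _
  rw [e]

theorem fam_inj : ∀ i < 693, ∀ j < 693, famAt i = famAt j → i = j := by
  have h := fam_distinct
  simp only [List.all_eq_true, List.mem_range] at h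
  have hlt : ∀ j, ∀ i < j, j < 693 → famAt i < famAt j := by
    intro j
    induction j with
    | zero => exact fun i hi => absurd hi (Nat.not_lt_zero i)
    | succ j ih =>
      intro i hi hj
      have h' := Nat.le_of_ble_eq_true (h j (by omega))
      rcases Nat.lt_succ_iff_lt_or_eq.1 hi with hi | rfl
      · exact lt_trans (ih i hi (by omega)) h'
      · exact h'
  intro i hi j hj e
  rcases lt_trichotomy i j with h' | h' | h'
  · exact absurd e (hlt j i h' hj).ne
  · exact h'
  · exact absurd e.symm (hlt i j h' hi).ne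

theorem pt_inj : ∀ i < 672, ∀ j < 672, ptAt i = ptAt j → i = j := by
  have h := pt_distinct
  simp only [List.all_eq_true, List.mem_range, Bool.not_eq_true'] at h
  intro i hi j hj e
  rcases lt_trichotomy i j with h' | h' | h'
  · exact absurd e.symm (Nat.ne_of_beq_eq_false (h j hj i h'))
  · exact h'
  · exact absurd e (Nat.ne_of_beq_eq_false (h i hi j h'))

theorem exists_equiv (F : Type) [Field F] [Fintype F] (hF : Fintype.card F = 4) :
    Nonempty (↥G0 ≃* Cfsg.PSU 6 F 2) := by
  obtain ⟨H, M, ⟨eH⟩⟩ := CfsgLib.Lie.MultExc.USixTwo.exists_model_u62 hF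
  obtain ⟨σ, hσ, hcl⟩ := M.gens
  have hle := card_G0
  haveI : Finite ↥(stabilizer Co0 uL) := Nat.finite_of_card_ne_zero (by
    rw [show Nat.card ↥(stabilizer Co0 uL) = 42305421312000 from CoTwoMult.card_G0]; norm_num)
  haveI : Finite ↥G0 := Finite.of_injective _ (Subgroup.inclusion_injective (inf_le_left : G0 ≤ stabilizer Co0 uL))
  let a : Fin 2 → ↥G0 := fun s => ⟨_, gen_mem s⟩
  let K : Subgroup ↥G0 := Subgroup.closure (Set.range a)
  have ha : ∀ s, a s ∈ K := fun s => Subgroup.subset_closure ⟨s, rfl⟩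
  obtain ⟨psi1, h1⟩ := exists_lift fam_follows fam_inj a K rfl ha (rho.comp K.subtype)
    (fun s x => rho_gen s x)
  obtain ⟨psi, h2⟩ := exists_lift pt_follows pt_inj a K rfl ha psi1 h1
  have hrange : H ≤ psi.range := by
    rw [← hcl, Subgroup.closure_le]
    rintro _ ⟨s, hs, rfl⟩
    have hs2 : s < 2 := hs
    refine ⟨⟨a ⟨s, hs2⟩, ha _⟩, Equiv.ext fun i => Fin.ext ?_⟩
    rw [hσ s hs i]
    exact h2 ⟨s, hs2⟩ i
  have hc1 : Nat.card ↥H ≤ Nat.card ↥psi.range := Nat.le_of_dvd Nat.card_pos (Subgroup.card_dvd_of_le hrange)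
  have hc2 : Nat.card ↥psi.range ≤ Nat.card ↥K :=
    Nat.card_le_card_of_surjective psi.rangeRestrict psi.rangeRestrict_surjective
  have hc3 : Nat.card ↥K ≤ Nat.card ↥G0 := Subgroup.card_le_card_group K
  have hH : Nat.card ↥H = 9196830720 :=
    M.card.trans (Nat.eq_of_beq_eq_true CfsgLib.Lie.MultExc.USixTwo.size_ok.1)
  have hKtop : K = ⊤ := Subgroup.eq_top_of_card_eq _ (by omega)
  have hR : psi.range = H := (Subgroup.eq_of_le_of_card_ge hrange (by omega)).symm
  have hbij : Function.Bijective psi.rangeRestrict :=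
    (Nat.bijective_iff_surjective_and_card psi.rangeRestrict).2 ⟨psi.rangeRestrict_surjective, by omega⟩
  exact ⟨(Subgroup.topEquiv.symm.trans (MulEquiv.subgroupCongr hKtop.symm)).trans
    ((MulEquiv.ofBijective psi.rangeRestrict hbij).trans ((MulEquiv.subgroupCongr hR).trans eH))⟩

theorem main (v w : leechLattice) (hv : sqNorm (v : GolayPt → ℤ) = 32) (hw : sqNorm (w : GolayPt → ℤ) = 32)
    (hd : dotInt (v : GolayPt → ℤ) (w : GolayPt → ℤ) = -16) (F : Type) [Field F] [Fintype F]
    (hF : Fintype.card F = 4) :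
    Nonempty (↥(stabilizer ↥Co0 v ⊓ stabilizer ↥Co0 w) ≃* Cfsg.PSU 6 F 2) := by
  obtain ⟨g, hg⟩ := transitive_norm (x := v) (y := uL) (Or.inl hv) (CoTwoMult.mark_code.2.trans hv.symm)
  obtain ⟨k, hk, hkw⟩ := pair_transitive (Or.inr (Or.inl rfl)) CoTwoMult.mark_code.2
    (show sqNorm ((g • w : leechLattice) : GolayPt → ℤ) = 32 by rw [co0_norm, hw]) wL_facts.1
    (show dotInt (uL : GolayPt → ℤ) ((g • w : leechLattice) : GolayPt → ℤ) = -16 by rw [← hg, co0_dot, hd])
    wL_facts.2
  have e1 : (k * g) • v = uL := by rw [mul_smul, hg, hk]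
  have e2 : (k * g) • w = wL := by rw [mul_smul, hkw]
  have hconj : (stabilizer ↥Co0 v ⊓ stabilizer ↥Co0 w).map (MulAut.conj (k * g)).toMonoidHom = G0 := by
    rw [Subgroup.map_inf _ _ _ (MulAut.conj _).injective]
    congr 1
    · exact (stabilizer_smul_eq_stabilizer_map_conj _ _).symm.trans (by rw [e1])
    · exact (stabilizer_smul_eq_stabilizer_map_conj _ _).symm.trans (by rw [e2])
  obtain ⟨f⟩ := exists_equiv F hF
  exact ⟨((MulAut.conj (k * g)).subgroupMap _).trans ((MulEquiv.subgroupCongr hconj).trans f)⟩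

end CfsgLib.Spor.CoTwoStab
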